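import Mathlib.RingTheory.Unramified.Finite
import Mathlib.RingTheory.Unramified.LocalStructure
import Mathlib.RingTheory.Etale.StandardEtale
import Mathlib.RingTheory.Localization.BaseChange
import Mathlib.RingTheory.Localization.Away.Basic

/-!
# A local piece of an unramified algebra becomes a closed direct factor after an étale base change
-/

set_option autoImplicit false
universe u

open TensorProduct

namespace Groth.Agent.H10Unram

variable {R : Type u} [CommRing R] {S : Type u} [CommRing S] [Algebra R S]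

/-- A surjection of a formally unramified algebra onto a localization gives an idempotent. -/
theorem exists_piece {E : Type u} [CommRing E] [Algebra R E] [Algebra.FormallyUnramified R E]
    [Algebra.EssFiniteType R E] (g : S) (φ : E →ₐ[R] Localization.Away g) (hφ : Function.Surjective φ) :
    ∃ z : E ⊗[R] S, IsIdempotentElem z ∧
      Algebra.TensorProduct.lift φ (IsScalarTower.toAlgHom R S (Localization.Away g))
        (fun _ _ => Commute.all _ _) z = 1 ∧
      ∀ t : E ⊗[R] S, ∃ a : E, (t - algebraMap E (E ⊗[R] S) a) * z = 0 := by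
  let Sg := Localization.Away g
  let ι := IsScalarTower.toAlgHom R S Sg
  let τ : E ⊗[R] S →ₐ[R] E ⊗[R] Sg := Algebra.TensorProduct.map (AlgHom.id R E) ι
  let θ : E ⊗[R] S →ₐ[R] Sg := Algebra.TensorProduct.lift φ ι (fun _ _ => Commute.all _ _)
  let θ' : E ⊗[R] Sg →ₐ[R] Sg := Algebra.TensorProduct.lift φ (AlgHom.id R Sg) (fun _ _ => Commute.all _ _)
  have hθ : θ'.comp τ = θ := Algebra.TensorProduct.ext' fun a s => by simp [θ', τ, θ]
  let w : E ⊗[R] Sg := Algebra.TensorProduct.map (AlgHom.id R E) φ (Algebra.FormallyUnramified.elem R E)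
  have hw1 : θ' w = 1 := by
    have h : θ'.comp (Algebra.TensorProduct.map (AlgHom.id R E) φ) = φ.comp (Algebra.TensorProduct.lmul' R) :=
      Algebra.TensorProduct.ext' fun a b => by simp [θ', map_mul]
    have := AlgHom.congr_fun h (Algebra.FormallyUnramified.elem R E)
    rw [AlgHom.comp_apply, AlgHom.comp_apply, Algebra.FormallyUnramified.lmul_elem, map_one] at this
    exact this
  have hwe : ∀ a : E, (a ⊗ₜ[R] (1 : Sg)) * w = ((1 : E) ⊗ₜ[R] φ a) * w := fun a => by
    have := congrArg (Algebra.TensorProduct.map (AlgHom.id R E) φ) (Algebra.FormallyUnramified.one_tmul_mul_elem (R := R) a)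
    rw [map_mul, map_mul, Algebra.TensorProduct.map_tmul, Algebra.TensorProduct.map_tmul, map_one, map_one] at this
    exact this.symm
  have hker : ∀ y : E ⊗[R] Sg, y * w = ((1 : E) ⊗ₜ[R] θ' y) * w := fun y => by
    induction y with
    | zero => simp
    | add p q hp hq => rw [add_mul, hp, hq, map_add, tmul_add, add_mul]
    | tmul a s =>
      calc (a ⊗ₜ[R] s) * w = ((1 : E) ⊗ₜ[R] s) * ((a ⊗ₜ[R] (1 : Sg)) * w) := by
            rw [← mul_assoc, Algebra.TensorProduct.tmul_mul_tmul, one_mul, mul_one]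
        _ = ((1 : E) ⊗ₜ[R] θ' (a ⊗ₜ[R] s)) * w := by
            rw [hwe, ← mul_assoc, Algebra.TensorProduct.tmul_mul_tmul, one_mul,
              Algebra.TensorProduct.lift_tmul, AlgHom.id_apply, mul_comm s]
  have hww : IsIdempotentElem w := by
    show w * w = w
    rw [hker w, hw1, Algebra.TensorProduct.one_def.symm, one_mul]
  obtain ⟨a, ha⟩ := hφ (IsLocalization.Away.invSelf g)
  let G : E ⊗[R] S := (1 : E) ⊗ₜ[R] g
  let c : E ⊗[R] S := a ⊗ₜ[R] g
  have hc : c = G * (a ⊗ₜ[R] (1 : S)) := by simp [c, G]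
  have hθc : θ c = 1 := by
    rw [Algebra.TensorProduct.lift_tmul, ha, mul_comm]
    exact IsLocalization.Away.mul_invSelf g
  have hcw : τ c * w = w := by
    rw [hker, show θ' (τ c) = θ c from AlgHom.congr_fun hθ c, hθc, ← Algebra.TensorProduct.one_def, one_mul]
  have hsur : ∀ y : E ⊗[R] Sg, ∃ (x : E ⊗[R] S) (k : ℕ), τ x = τ G ^ k * y := fun y => by
    induction y with
    | zero => exact ⟨0, 0, by simp⟩
    | add p q hp hq =>
      obtain ⟨⟨x, k, hx⟩, ⟨x', k', hx'⟩⟩ := hp, hq
      exact ⟨G ^ k' * x + G ^ k * x', k + k', by rw [map_add, map_mul, map_mul, hx, hx', map_pow, map_pow]; ring⟩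
    | tmul e s =>
      obtain ⟨k, s', hs⟩ := IsLocalization.Away.surj g s
      refine ⟨e ⊗ₜ[R] s', k, ?_⟩
      simp only [τ, G, Algebra.TensorProduct.map_tmul, Algebra.TensorProduct.tmul_pow, one_pow,
        Algebra.TensorProduct.tmul_mul_tmul, one_mul, AlgHom.id_apply, ι, IsScalarTower.coe_toAlgHom']
      rw [← hs, mul_comm]
  obtain ⟨z, k, hz⟩ := hsur w
  let z₀ : E ⊗[R] S := z * (a ⊗ₜ[R] (1 : S)) ^ k
  have hz₀ : τ z₀ = w := by
    rw [map_mul, map_pow, hz]
    calc τ G ^ k * w * τ (a ⊗ₜ[R] (1 : S)) ^ k = τ c ^ k * w := by rw [hc, map_mul, mul_pow]; ring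
      _ = w := by
        clear hz
        induction k with
        | zero => simp
        | succ k ih => rw [pow_succ, mul_assoc, hcw, ih]
  have hloc : ∀ x : E ⊗[R] S, τ x = 0 → ∃ m : ℕ, ∀ n, m ≤ n → c ^ n * x = 0 := by
    intro x hx
    have e1 : (Algebra.TensorProduct.comm R E Sg).toAlgHom.comp τ =
        (Algebra.TensorProduct.map ι (AlgHom.id R E)).comp (Algebra.TensorProduct.comm R E S).toAlgHom :=
      Algebra.TensorProduct.ext' fun p q => by simp [τ]
    have h0 : AlgebraTensorModule.rTensor R E (Algebra.linearMap S Sg) (Algebra.TensorProduct.comm R E S x) = 0 := by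
      have e2 : ∀ v : S ⊗[R] E, AlgebraTensorModule.rTensor R E (Algebra.linearMap S Sg) v =
          Algebra.TensorProduct.map ι (AlgHom.id R E) v := fun v => by
        induction v with
        | zero => simp
        | add p q hp hq => rw [map_add, map_add, hp, hq]
        | tmul p q => rfl
      rw [e2]
      exact (AlgHom.congr_fun e1 x).symm.trans ((congrArg (Algebra.TensorProduct.comm R E Sg) hx).trans (map_zero _))
    obtain ⟨⟨_, m, rfl⟩, hm⟩ := (IsLocalizedModule.eq_zero_iff (Submonoid.powers g)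
      (AlgebraTensorModule.rTensor R E (Algebra.linearMap S Sg))).mp h0
    refine ⟨m, fun n hn => ?_⟩
    have hGm : G ^ m * x = 0 := by
      apply (Algebra.TensorProduct.comm R E S).injective
      rw [map_mul, map_zero, map_pow]
      simp only [G, Algebra.TensorProduct.comm_tmul, Algebra.TensorProduct.tmul_pow, one_pow]
      rw [← hm]
      rw [Submonoid.smul_def, Algebra.smul_def]
      rfl
    obtain ⟨d, rfl⟩ := Nat.exists_eq_add_of_le hn
    rw [pow_add, hc, mul_pow, show G ^ m * (a ⊗ₜ[R] (1 : S)) ^ m * (G * (a ⊗ₜ[R] (1 : S))) ^ d * x =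
      (a ⊗ₜ[R] (1 : S)) ^ m * (G * (a ⊗ₜ[R] (1 : S))) ^ d * (G ^ m * x) by ring, hGm, mul_zero]
  obtain ⟨m₁, hm₁⟩ := hloc (z₀ * z₀ - z₀) (by rw [map_sub, map_mul, hz₀, hww.eq, sub_self])
  obtain ⟨m₂, hm₂⟩ := hloc ((c - 1) * z₀) (by rw [map_mul, map_sub, map_one, hz₀, sub_mul, hcw, one_mul, sub_self])
  let N := m₁ + m₂
  have hcst : ∀ d, c ^ (N + d) * z₀ = c ^ N * z₀ := fun d => by
    induction d with
    | zero => rfl
    | succ d ih => linear_combination ih + hm₂ (N + d) (by omega)
  refine ⟨c ^ N * z₀, ?_, ?_, fun t => ?_⟩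
  · show c ^ N * z₀ * (c ^ N * z₀) = c ^ N * z₀
    linear_combination hm₁ (N + N) (by omega) + hcst N
  · show θ (c ^ N * z₀) = 1
    rw [map_mul, map_pow, hθc, one_pow, one_mul, ← AlgHom.congr_fun hθ z₀, AlgHom.comp_apply, hz₀, hw1]
  · obtain ⟨e, he⟩ := hφ (θ t)
    refine ⟨e, ?_⟩
    have h0 : θ (t - algebraMap E (E ⊗[R] S) e) = 0 := by
      rw [map_sub, Algebra.TensorProduct.algebraMap_apply, Algebra.TensorProduct.lift_tmul, map_one, mul_one]
      exact sub_eq_zero.mpr he.symm
    obtain ⟨m, hm⟩ := hloc ((t - algebraMap E (E ⊗[R] S) e) * z₀) (by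
      rw [map_mul, hz₀, hker, show θ' (τ _) = θ _ from AlgHom.congr_fun hθ _, h0, tmul_zero, zero_mul])
    rw [← hcst m]
    linear_combination hm (N + m) (by omega)

end Groth.Agent.H10Unram
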