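import Groth.Agent.H10Unram.Piece
import Groth.Agent.Et18.StrictHensel
import Mathlib.RingTheory.Idempotents

/-!
# Étale neighbourhoods in which a point of an unramified algebra becomes a closed direct factor
-/

set_option autoImplicit false
set_option linter.style.haveILetI false
universe u

open TensorProduct

namespace Groth.Agent.H10Unram

open Groth.Agent.Et18

variable {R : Type u} [CommRing R] {S : Type u} [CommRing S] [Algebra R S] {Ω : Type u} [Field Ω] [Algebra R Ω]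

/-- An idempotent cuts out a quotient of the base. -/
def Cuts {A : Type u} [CommRing A] [Algebra R A] (z : A ⊗[R] S) : Prop :=
  ∀ t : A ⊗[R] S, ∃ a : A, (t - algebraMap A (A ⊗[R] S) a) * z = 0

/-- Transport of a piece along a refinement. -/
theorem cuts_bc {N M : SHensel.Nbhd R Ω} (ψ : N.Hom M) {z : N.A ⊗[R] S} (h : Cuts z) : Cuts (ψ.bc z) := by
  intro t
  induction t with
  | zero => exact ⟨0, by simp⟩
  | add p q hp hq =>
    obtain ⟨⟨a, ha⟩, ⟨b, hb⟩⟩ := hp, hq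
    exact ⟨a + b, by rw [map_add]; linear_combination ha + hb⟩
  | tmul b s =>
    obtain ⟨a, ha⟩ := h ((1 : N.A) ⊗ₜ[R] s)
    refine ⟨b * ψ.map a, ?_⟩
    have h1 := congrArg ψ.bc ha
    rw [map_mul, map_sub, map_zero] at h1
    have e1 : ψ.bc ((1 : N.A) ⊗ₜ[R] s) = (1 : M.A) ⊗ₜ[R] s := by simp [SHensel.Nbhd.Hom.bc]
    have e2 : ψ.bc (algebraMap N.A (N.A ⊗[R] S) a) = algebraMap M.A (M.A ⊗[R] S) (ψ.map a) := by
      simp [SHensel.Nbhd.Hom.bc]
    have e3 : b ⊗ₜ[R] s = algebraMap M.A (M.A ⊗[R] S) b * ((1 : M.A) ⊗ₜ[R] s) := by simp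
    rw [e1, e2] at h1
    rw [e3, map_mul]
    linear_combination (algebraMap M.A (M.A ⊗[R] S) b) * h1

/-- Elements killed by a piece map to zero in the quotient. -/
theorem mem_span_of_mul_eq_zero {A : Type u} [CommRing A] {z x : A} (h : x * z = 0) : x ∈ Ideal.span {1 - z} :=
  Ideal.mem_span_singleton.mpr ⟨x, by linear_combination h⟩

/-- At an unramified point there is a piece. -/
theorem exists_nbhd_piece [Algebra.FiniteType R S] (ξ : S →ₐ[R] Ω) (q : Ideal S) [q.IsPrime]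
    (hq : RingHom.ker ξ = q) [Algebra.IsUnramifiedAt R q] :
    ∃ (N : SHensel.Nbhd R Ω) (z : N.A ⊗[R] S), IsIdempotentElem z ∧ N.eval ξ z = 1 ∧ Cuts z := by
  obtain ⟨g, hg, P, φ, hφ⟩ := Algebra.IsUnramifiedAt.exists_hasStandardEtaleSurjectionOn (R := R) q
  have hu : ∀ y : Submonoid.powers g, IsUnit (ξ y) := by
    rintro ⟨_, n, rfl⟩
    show IsUnit (ξ (g ^ n))
    rw [map_pow]
    exact (isUnit_iff_ne_zero.mpr fun h => hg (hq ▸ RingHom.mem_ker.mpr h)).pow n
  let ξ' : Localization.Away g →ₐ[R] Ω :=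
    IsLocalization.liftAlgHom (M := Submonoid.powers g) (S := Localization.Away g) (f := ξ) hu
  let N : SHensel.Nbhd R Ω := { A := P.Ring, pt := ξ'.comp φ }
  obtain ⟨z, hz, hz1, hcut⟩ := exists_piece g φ hφ
  refine ⟨N, z, hz, ?_, hcut⟩
  have h : ξ'.comp (Algebra.TensorProduct.lift φ (IsScalarTower.toAlgHom R S (Localization.Away g))
      (fun _ _ => Commute.all _ _)) = N.eval ξ := Algebra.TensorProduct.ext' fun a s => by
    rw [AlgHom.comp_apply]
    rw [Algebra.TensorProduct.lift_tmul, map_mul, SHensel.Nbhd.eval_tmul]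
    simp [ξ', N]
  rw [← AlgHom.congr_fun h z]
  exact (congrArg ξ' hz1).trans (map_one _)

/-- The quotient cut out by a piece: surjectivity, and the ideal of the point. -/
theorem piece_quotient (N : SHensel.Nbhd R Ω) (ξ : S →ₐ[R] Ω) (z : N.A ⊗[R] S) (h1 : N.eval ξ z = 1)
    (hcut : Cuts z) :
    ∃ ε : (N.A ⊗[R] S ⧸ Ideal.span {1 - z}) →+* Ω,
      (∀ t, ε (Ideal.Quotient.mk _ t) = N.eval ξ t) ∧
      Function.Surjective (algebraMap N.A (N.A ⊗[R] S ⧸ Ideal.span {1 - z})) ∧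
      (RingHom.ker N.pt).map (algebraMap N.A (N.A ⊗[R] S ⧸ Ideal.span {1 - z})) = RingHom.ker ε ∧
      (RingHom.ker ε).comap (algebraMap N.A (N.A ⊗[R] S ⧸ Ideal.span {1 - z})) = RingHom.ker N.pt := by
  have hker : ∀ t ∈ Ideal.span {1 - z}, N.eval ξ t = 0 := fun t ht => by
    obtain ⟨s, rfl⟩ := Ideal.mem_span_singleton.mp ht
    rw [map_mul, map_sub, map_one, h1, sub_self, zero_mul]
  let ε : (N.A ⊗[R] S ⧸ Ideal.span {1 - z}) →+* Ω := Ideal.Quotient.lift _ (N.eval ξ).toRingHom hker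
  have hsur : Function.Surjective (algebraMap N.A (N.A ⊗[R] S ⧸ Ideal.span {1 - z})) := fun t => by
    obtain ⟨t, rfl⟩ := Ideal.Quotient.mk_surjective t
    obtain ⟨a, ha⟩ := hcut t
    exact ⟨a, (Ideal.Quotient.eq.mpr (mem_span_of_mul_eq_zero ha)).symm⟩
  have hε : ∀ a, ε (algebraMap N.A (N.A ⊗[R] S ⧸ Ideal.span {1 - z}) a) = N.pt a := fun a => by
    show N.eval ξ (algebraMap N.A (N.A ⊗[R] S) a) = N.pt a
    rw [Algebra.TensorProduct.algebraMap_apply, SHensel.Nbhd.eval_tmul, map_one, mul_one]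
    rfl
  have hcomap : (RingHom.ker ε).comap (algebraMap N.A (N.A ⊗[R] S ⧸ Ideal.span {1 - z})) = RingHom.ker N.pt := by
    ext a
    rw [Ideal.mem_comap, RingHom.mem_ker, RingHom.mem_ker, hε]
  refine ⟨ε, fun t => rfl, hsur, ?_, hcomap⟩
  rw [← hcomap, Ideal.map_comap_of_surjective _ hsur]

end Groth.Agent.H10Unram
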